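import Cfsg.Agent.EqLemmas
import Mathlib.RepresentationTheory.Maschke
import Mathlib.Tactic

/-!
# The only relation of a doubly transitive orbit with a regular root group is the constant one (helper26)

`notes/sd_regularity_budget_helper26.md`, INDEPENDENCE.  `μ : X → M` equivariant, `V` abelian fixing `x₀`,
regular on the other points, its non-trivial elements fused by the stabiliser of `x₀, y₀`, `|V|` invertible
in `k`.  Then `μ` is constant or every relation `∑ c x • μ x = 0` has constant coefficients.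
-/

set_option autoImplicit false

namespace Cfsg.Agent.SDKeystone.RegBudget

open MonoidAlgebra

theorem relation_const {k : Type*} [Field k] {L : Type*} [Group L] {X : Type*} [Fintype X] [MulAction L X]
    {M : Type*} [AddCommGroup M] [Module k M] (μ : X → M)
    (hμ : ∀ g : L, ∃ φ : M →ₗ[k] M, ∀ x, φ (μ x) = μ (g • x)) {V : Type*} [CommGroup V] [Fintype V]
    (ι : V →* L) (x₀ y₀ : X) (hne : y₀ ≠ x₀) (h0 : ∀ v, ι v • x₀ = x₀)
    (hinj : Function.Injective fun v => ι v • y₀) (hsurj : ∀ y, y ≠ x₀ → ∃ v, ι v • y₀ = y)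
    (hq : (Fintype.card V : k) ≠ 0) (hV : 2 ≤ Fintype.card V)
    (hT : ∀ a b : V, a ≠ 1 → b ≠ 1 → ∃ (α : V ≃* V) (c : L), α a = b ∧ c • y₀ = y₀ ∧
      ∀ v, c * ι v = ι (α v) * c)
    (htrans : ∀ x : X, ∃ g : L, g • x₀ = x) :
    (∀ x y, μ x = μ y) ∨ ∀ c : X → k, (∑ x, c x • μ x) = 0 → ∀ x y, c x = c y := by
  classical
  haveI : NeZero (Nat.card V : k) := ⟨by rwa [Nat.card_eq_fintype_card]⟩
  have hX3 : ∀ a b : X, ∃ p, p ≠ a ∧ p ≠ b := by
    intro a b
    obtain ⟨w, hw⟩ : ∃ w : V, w ≠ 1 := Fintype.exists_ne_of_one_lt_card (by omega) 1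
    have h1 : ι w • y₀ ≠ y₀ := fun h => hw (hinj (h.trans (by simp)))
    have h2 : ι w • y₀ ≠ x₀ := fun h => hne (smul_left_cancel (ι w) (h.trans (h0 w).symm))
    by_cases hxa : x₀ ≠ a ∧ x₀ ≠ b
    · exact ⟨x₀, hxa⟩
    by_cases hya : y₀ ≠ a ∧ y₀ ≠ b
    · exact ⟨y₀, hya⟩
    exact ⟨ι w • y₀, by grind, by grind⟩
  let Φ : MonoidAlgebra k V →ₗ[k] M :=
    (Finsupp.linearCombination k fun v => μ (ι v • y₀)).comp (coeffLinearEquiv k).toLinearMap
  have hΦs : ∀ v a, Φ (single v a) = a • μ (ι v • y₀) := fun v a => by simp [Φ]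
  have hΦf : ∀ f, Φ f = ∑ v, f.coeff v • μ (ι v • y₀) := fun f => by
    show Finsupp.linearCombination k _ f.coeff = _
    rw [Finsupp.linearCombination_apply, Finsupp.sum_fintype _ _ (by simp)]
  have hmul : ∀ (g f : MonoidAlgebra k V), Φ f = 0 → Φ (g * f) = 0 := by
    intro g f hf
    induction g using MonoidAlgebra.induction_linear with
    | zero => simp
    | add g₁ g₂ h₁ h₂ => rw [add_mul, map_add, h₁, h₂, add_zero]
    | single v a =>
      obtain ⟨φ, hφ⟩ := hμ (ι v)
      have key : ∀ f, Φ (single v a * f) = a • φ (Φ f) := by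
        intro f
        induction f using MonoidAlgebra.induction_linear with
        | zero => simp
        | add f₁ f₂ h₁ h₂ => rw [mul_add, map_add, h₁, h₂, map_add, map_add, smul_add]
        | single w b =>
          rw [single_mul_single, hΦs, hΦs, map_smul, hφ, map_mul, mul_smul, mul_smul]
      rw [key, hf, map_zero, smul_zero]
  let I : Ideal (MonoidAlgebra k V) :=
    { carrier := {f | Φ f = 0}
      zero_mem' := map_zero Φ
      add_mem' := fun {a b} ha hb => by
        simp only [Set.mem_setOf_eq] at ha hb ⊢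
        rw [map_add, ha, hb, add_zero]
      smul_mem' := fun g f hf => hmul g f hf }
  have hI : ∀ {f}, f ∈ I ↔ Φ f = 0 := Iff.rfl
  have hshift : ∀ (g : L) (c : X → k), (∑ x, c x • μ x) = 0 → (∑ x, c (g⁻¹ • x) • μ x) = 0 := by
    intro g c hc
    obtain ⟨φ, hφ⟩ := hμ g
    have e := congrArg φ hc
    rw [map_sum, map_zero] at e
    rw [← Equiv.sum_comp (MulAction.toPerm g)]
    simpa [hφ] using e
  by_cases hbot : I = ⊥
  · refine Or.inr fun c hc => ?_
    have fixed : ∀ c : X → k, (∑ x, c x • μ x) = 0 → ∀ y y', y ≠ x₀ → y' ≠ x₀ → c y = c y' := by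
      intro c hc
      have key : ∀ v, c y₀ = c (ι v • y₀) := by
        intro v
        let d : X → k := fun x => c x - c (((ι v⁻¹ : L))⁻¹ • x)
        have hd : (∑ x, d x • μ x) = 0 := by
          simp [d, sub_smul, Finset.sum_sub_distrib, hc]
          simpa using hshift (ι v⁻¹) c hc
        have hd0 : d x₀ = 0 := by simp [d, h0]
        let f : MonoidAlgebra k V := ∑ w, single w (d (ι w • y₀))
        have hf : f ∈ I := by
          rw [hI, map_sum]
          simp only [hΦs]
          rw [← hd, ← Finset.add_sum_erase _ _ (Finset.mem_univ x₀), hd0, zero_smul, zero_add]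
          refine Finset.sum_bij (fun w _ => ι w • y₀) (fun w _ => ?_) (fun a _ b _ h => hinj h)
            (fun y hy => ?_) (fun _ _ => rfl)
          · refine Finset.mem_erase.2 ⟨fun h => ?_, Finset.mem_univ _⟩
            exact hne (smul_left_cancel (ι w) (h.trans (h0 w).symm))
          · obtain ⟨w, hw⟩ := hsurj y (Finset.mem_erase.1 hy).1
            exact ⟨w, Finset.mem_univ _, hw⟩
        rw [hbot, Submodule.mem_bot] at hf
        have h1 := congrArg (fun f : MonoidAlgebra k V => f.coeff 1) hf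
        simp [f, Finsupp.single_apply, d] at h1
        exact sub_eq_zero.1 h1
      intro y y' hy hy'
      obtain ⟨v, rfl⟩ := hsurj y hy
      obtain ⟨v', rfl⟩ := hsurj y' hy'
      rw [← key v, key v']
    intro x y
    obtain ⟨p, hpx, hpy⟩ := hX3 x y
    obtain ⟨g, rfl⟩ := htrans p
    have h := fixed _ (hshift g⁻¹ c hc) (g⁻¹ • x) (g⁻¹ • y)
      (fun e => hpx (by rw [← e, smul_inv_smul])) (fun e => hpy (by rw [← e, smul_inv_smul]))
    simpa using h
  refine Or.inl ?_
  obtain ⟨J, hJ⟩ := MonoidAlgebra.Submodule.exists_isCompl I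
  obtain ⟨e, he, e', he', hee⟩ : ∃ e ∈ I, ∃ e' ∈ J, e + e' = 1 := by
    have h : (1 : MonoidAlgebra k V) ∈ I ⊔ J := by rw [hJ.sup_eq_top]; trivial
    exact Submodule.mem_sup.1 h
  have hid : ∀ f ∈ I, f * e = f := by
    intro f hf
    have h1 : f * e' ∈ I := by rw [mul_comm]; exact I.mul_mem_left e' hf
    have h2 : f * e' ∈ J := J.smul_mem f he'
    have h3 : f * e' = 0 := by
      have := Submodule.mem_inf.2 ⟨h1, h2⟩
      rwa [hJ.inf_eq_bot, Submodule.mem_bot] at this
    calc f * e = f * e + f * e' := by rw [h3, add_zero]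
      _ = f := by rw [← mul_add, hee, mul_one]
  have he0 : e ≠ 0 := fun h => hbot (by
    rw [eq_bot_iff]
    intro f hf
    rw [Submodule.mem_bot, ← hid f hf, h, mul_zero])
  have hconst : ∀ a b : V, a ≠ 1 → b ≠ 1 → e.coeff a = e.coeff b := by
    intro a b ha hb
    obtain ⟨α, c, hab, hcy, hc⟩ := hT a b ha hb
    let A := MonoidAlgebra.domCongr k k α
    obtain ⟨φ, hφ⟩ := hμ c
    have hA : ∀ f, Φ (A f) = φ (Φ f) := by
      intro f
      induction f using MonoidAlgebra.induction_linear with
      | zero => simp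
      | add f₁ f₂ h₁ h₂ => rw [map_add, map_add, h₁, h₂, map_add, map_add]
      | single w r =>
        rw [show A (single w r) = single (α w) r from domCongr_single _ _ _, hΦs, hΦs, map_smul, hφ,
          smul_smul, hc, ← smul_smul (ι (α w)), hcy]
    have hAe : A e ∈ I := by rw [hI, hA, hI.1 he, map_zero]
    have hAid : ∀ f ∈ I, f * A e = f := by
      intro f hf
      have hf' : A.symm f ∈ I := by
        obtain ⟨φ', hφ'⟩ := hμ c⁻¹
        have hcy' : c⁻¹ • y₀ = y₀ := by rw [inv_smul_eq_iff, hcy]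
        have : ∀ f, Φ f = φ' (Φ (A f)) := by
          intro f
          induction f using MonoidAlgebra.induction_linear with
          | zero => simp
          | add f₁ f₂ h₁ h₂ => rw [map_add, map_add, map_add, map_add, ← h₁, ← h₂]
          | single w r =>
            rw [show A (single w r) = single (α w) r from domCongr_single _ _ _, hΦs, hΦs, map_smul,
              hφ', smul_smul]
            have e' : c⁻¹ * ι (α w) = ι w * c⁻¹ := by
              rw [eq_mul_inv_iff_mul_eq, mul_assoc, ← hc, inv_mul_cancel_left]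
            rw [e', ← smul_smul (ι w), hcy']
        rw [hI, this, AlgEquiv.apply_symm_apply, hI.1 hf, map_zero]
      have h := congrArg A (hid _ hf')
      rwa [map_mul, AlgEquiv.apply_symm_apply] at h
    have hAe' : A e = e := (hid _ hAe).symm.trans ((mul_comm _ _).trans (hAid e he))
    have h := congrArg (fun f : MonoidAlgebra k V => f.coeff b) hAe'
    simp only [A, coeff_domCongr] at h
    rwa [← hab, MulEquiv.symm_apply_apply, hab] at h
  obtain ⟨v₁, hv₁⟩ : ∃ v : V, v ≠ 1 := Fintype.exists_ne_of_one_lt_card (by omega) 1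
  have spread : (∀ y, y ≠ x₀ → μ y = μ y₀) → ∀ x y, μ x = μ y := by
    intro h x y
    obtain ⟨p, hpx, hpy⟩ := hX3 x y
    obtain ⟨g, rfl⟩ := htrans p
    obtain ⟨φ, hφ⟩ := hμ g
    have hx := congrArg φ (h (g⁻¹ • x) fun e => hpx (by rw [← e, smul_inv_smul]))
    have hy := congrArg φ (h (g⁻¹ • y) fun e => hpy (by rw [← e, smul_inv_smul]))
    rw [hφ, hφ, smul_inv_smul] at hx hy
    exact hx.trans hy.symm
  by_cases hab : e.coeff 1 = e.coeff v₁
  · -- the sum over the points other than `x₀` vanishes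
    have hall : ∀ v, e.coeff v = e.coeff v₁ := fun v => by
      by_cases hv : v = 1
      · rw [hv, hab]
      · exact hconst v v₁ hv hv₁
    have hb : e.coeff v₁ ≠ 0 := fun h => he0 (by ext v; simp [hall v, h])
    have hsum : ∑ v, μ (ι v • y₀) = 0 := by
      have h := hI.1 he
      rw [hΦf] at h
      simp only [hall, ← Finset.smul_sum] at h
      exact (smul_eq_zero.1 h).resolve_left hb
    have hp : ∀ p, μ p = ∑ x, μ x := by
      intro p
      obtain ⟨g, rfl⟩ := htrans p
      obtain ⟨φ, hφ⟩ := hμ g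
      have e0 : μ x₀ = ∑ x, μ x := by
        rw [← Finset.add_sum_erase _ _ (Finset.mem_univ x₀), left_eq_add, ← hsum]
        refine (Finset.sum_bij (fun w _ => ι w • y₀) (fun w _ => ?_) (fun a _ b _ h => hinj h)
          (fun y hy => ?_) (fun _ _ => rfl)).symm
        · refine Finset.mem_erase.2 ⟨fun h => ?_, Finset.mem_univ _⟩
          exact hne (smul_left_cancel (ι w) (h.trans (h0 w).symm))
        · obtain ⟨w, hw⟩ := hsurj y (Finset.mem_erase.1 hy).1
          exact ⟨w, Finset.mem_univ _, hw⟩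
      have h := congrArg φ e0
      rw [hφ, map_sum] at h
      simp only [hφ] at h
      rw [h]
      exact Equiv.sum_comp (MulAction.toPerm g) μ
    exact fun x y => (hp x).trans (hp y).symm
  · refine spread fun y hy => ?_
    obtain ⟨w, rfl⟩ := hsurj y hy
    rcases eq_or_ne w 1 with rfl | hw
    · simp
    have h := hI.1 (I.mul_mem_left (1 - single w 1) he)
    have hc : (1 - single w 1) * e = (e.coeff 1 - e.coeff v₁) • (single 1 1 - single w 1) := by
      ext u
      rw [sub_mul, one_mul]
      simp only [coeff_sub, Finsupp.sub_apply, coeff_smul, Finsupp.smul_apply, smul_eq_mul]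
      rw [coeff_single_mul_eq_mul_coeff (w⁻¹ * u) (fun m _ => eq_inv_mul_iff_mul_eq.symm), one_mul,
        coeff_single_apply, coeff_single_apply]
      rcases eq_or_ne u 1 with rfl | hu1
      · rw [if_pos rfl, if_neg hw, mul_one, hconst (w⁻¹) v₁ (by simpa using hw) hv₁]
        simp
      rcases eq_or_ne u w with rfl | huw
      · rw [if_neg (Ne.symm hu1), if_pos rfl, inv_mul_cancel, hconst u v₁ hu1 hv₁]
        ring
      rw [if_neg (Ne.symm hu1), if_neg (Ne.symm huw), hconst u v₁ hu1 hv₁,
        hconst (w⁻¹ * u) v₁ (by rw [ne_eq, inv_mul_eq_one]; exact Ne.symm huw) hv₁]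
      ring
    rw [hc, map_smul, smul_eq_zero, map_sub, hΦs, hΦs, sub_eq_zero, sub_eq_zero] at h
    simp only [one_smul, map_one] at h
    exact (h.resolve_left hab).symm

end Cfsg.Agent.SDKeystone.RegBudget
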