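import Cfsg.Agent.EqLemmas
import Mathlib.RingTheory.Int.Basic
import Mathlib.FieldTheory.Finite.Basic
import Mathlib.Tactic

/-!
# The degree window of the semidihedral equations (helper26)

`notes/sd_regularity_budget_helper26.md`, section 0.  With `u (Q² - X) = X (X - 1)` the two characters of
the principal block have degrees `|X|` and `|X - 1 + u|`.

* `window_neg` : if `X < Q²` one of them is below `q²`;
* `window` : one of them is at most `2 q² - 2 q`, for a prime power `q ≥ 7` and `8 ∣ X - Q`.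
-/

set_option autoImplicit false

namespace Cfsg.Agent.SDKeystone.RegBudget

variable {q : ℕ} {Q X u : ℤ}

/-- The second degree in terms of `E = X - Q²`. -/
theorem mul_second (hu : u * (Q ^ 2 - X) = X * (X - 1)) :
    (X - Q ^ 2) * -(X - 1 + u) = Q ^ 2 * (X - 1) := by
  linear_combination hu

/-- Below `Q²` one of the degrees is small. -/
theorem window_neg (hq : 1 < q) (hQ : Q.natAbs = q) (hX : X < Q ^ 2) (hX1 : X ≠ 1)
    (hu : u * (Q ^ 2 - X) = X * (X - 1)) :
    X.natAbs < q ^ 2 ∨ (X - 1 + u).natAbs < q ^ 2 := by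
  have hQ2 : ((q : ℤ)) ^ 2 = Q ^ 2 := by rw [← hQ, Int.natAbs_sq]
  rcases lt_or_ge (-(Q ^ 2)) X with h | h
  · refine Or.inl ?_
    rw [← Int.ofNat_lt, Int.natCast_natAbs, abs_lt]
    push_cast
    constructor <;> linarith
  · refine Or.inr ?_
    have hk := mul_second hu
    rw [← Int.ofNat_lt, Int.natCast_natAbs, abs_lt]
    push_cast
    rw [hQ2]
    have hE : 0 < Q ^ 2 - X := by linarith
    have hQ1 : 1 < Q ^ 2 := hQ2 ▸ one_lt_pow₀ (by exact_mod_cast hq) two_ne_zero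
    constructor <;> by_contra hc <;> rw [not_lt] at hc <;>
      have := mul_le_mul_of_nonneg_left hc hE.le <;> nlinarith

/-- The window around `q²`: the divisors `q² - j` of `q² (q² - 1)` with small `j`. -/
theorem near_square (hq : IsPrimePow q) (hq17 : 17 ≤ q) {j k : ℤ} (hk0 : 0 ≤ k) (hk : k ≤ 6)
    (hj : j.natAbs ≤ 2 * q + 5) (he : j * (j + k - 1) = k * (q : ℤ) ^ 2) :
    j = 0 ∨ j = 1 ∨ j = q ∨ j = -(q : ℤ) := by
  obtain ⟨p, n, hp, hn, rfl⟩ := hq
  have hp' : Nat.Prime p := Nat.prime_iff.2 hp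
  have hpZ : Prime (p : ℤ) := Nat.prime_iff_prime_int.1 hp'
  rcases eq_or_ne k 1 with rfl | hk1
  · have h : (j - (p ^ n : ℕ)) * (j + (p ^ n : ℕ)) = 0 := by linear_combination he
    rcases mul_eq_zero.1 h with h | h
    · exact Or.inr (Or.inr (Or.inl (by linarith)))
    · exact Or.inr (Or.inr (Or.inr (by linarith)))
  rcases eq_or_ne k 0 with rfl | hk0'
  · rcases mul_eq_zero.1 (show j * (j - 1) = 0 by linear_combination he) with h | h
    · exact Or.inl h
    · exact Or.inr (Or.inl (by linarith))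
  exfalso
  have hd : ((p : ℤ) ^ n) ^ 2 ∣ j * (j + k - 1) := ⟨k, by rw [he]; push_cast; ring⟩
  rw [← pow_mul] at hd
  obtain ⟨e, f, hef, he1, he2⟩ : ∃ e f : ℕ, n * 2 ≤ e + f ∧ (p : ℤ) ^ e ∣ j ∧ (p : ℤ) ^ f ∣ j + k - 1 := by
    have hj0 : j ≠ 0 := fun h => by
      rw [h, zero_mul] at he
      exact hk0' ((mul_eq_zero.1 he.symm).resolve_right (by positivity))
    have hj1 : j + k - 1 ≠ 0 := fun h => by
      rw [h, mul_zero] at he
      exact hk0' ((mul_eq_zero.1 he.symm).resolve_right (by positivity))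
    have fin : ∀ a : ℤ, a ≠ 0 → FiniteMultiplicity (p : ℤ) a := fun a ha =>
      FiniteMultiplicity.of_prime_left hpZ ha
    refine ⟨multiplicity (p : ℤ) j, multiplicity (p : ℤ) (j + k - 1), ?_, pow_multiplicity_dvd _ _,
      pow_multiplicity_dvd _ _⟩
    rw [← multiplicity_mul hpZ (fin _ (mul_ne_zero hj0 hj1))]
    exact (fin _ (mul_ne_zero hj0 hj1)).le_multiplicity_of_pow_dvd hd
  -- the smaller exponent divides `k - 1`
  have hsmall : ∀ m : ℕ, m ≤ e → m ≤ f → p ^ m ≤ 5 := fun m h1 h2 => by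
    have h := dvd_sub ((pow_dvd_pow _ h2).trans he2) ((pow_dvd_pow _ h1).trans he1)
    rw [show j + k - 1 - j = k - 1 by ring] at h
    have h' := Int.le_of_dvd (by omega : (0 : ℤ) < k - 1) h
    have h5 : ((p ^ m : ℕ) : ℤ) ≤ 5 := by push_cast; omega
    exact_mod_cast h5
  have hbig : ∀ m : ℕ, ∀ a : ℤ, a ≠ 0 → (p : ℤ) ^ m ∣ a → p ^ m ≤ a.natAbs := fun m a ha h => by
    have := Int.natAbs_dvd_natAbs.2 h
    rw [Int.natAbs_pow, Int.natAbs_natCast] at this
    exact Nat.le_of_dvd (by omega) this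
  have hlt : 17 * p ^ n ≤ p ^ (e + f) :=
    le_trans (by rw [mul_two, pow_add]; exact Nat.mul_le_mul_right _ hq17)
      (Nat.pow_le_pow_right hp'.pos hef)
  have hj0 : j ≠ 0 := fun h => by
    rw [h, zero_mul] at he
    exact hk0' ((mul_eq_zero.1 he.symm).resolve_right (by positivity))
  have hj1 : j + k - 1 ≠ 0 := fun h => by
    rw [h, mul_zero] at he
    exact hk0' ((mul_eq_zero.1 he.symm).resolve_right (by positivity))
  rw [pow_add] at hlt
  rcases le_total e f with h | h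
  · have h1 := hsmall e le_rfl h
    have h2 := Nat.mul_le_mul h1 (hbig f _ hj1 he2)
    omega
  · have h1 := hsmall f h le_rfl
    have h2 := Nat.mul_le_mul (hbig e _ hj0 he1) h1
    omega

/-- The two fields below `17`. -/
theorem small_window : ([7, -9, 11, -13] : List ℤ).all (fun Q =>
    (List.range (4 * Q.natAbs + 9)).all fun a : ℕ =>
      let E : ℤ := Q ^ 2 - 2 * (Q.natAbs : ℤ) + (a : ℤ)
      decide (¬ ((Q ^ 2 * (Q ^ 2 - 1)) % E = 0 ∧ E % 4 = 2 ∧ (Q ^ 2 + E - Q) % 8 = 0) ∨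
        E ≤ Q ^ 2 - 2 * (Q.natAbs : ℤ) ∨ Q ^ 2 * (Q ^ 2 - 1) / E ≤ Q ^ 2 - 2 * (Q.natAbs : ℤ))) = true := by
  decide +kernel

/-- **The degree window.** -/
theorem window (hq : IsPrimePow q) (h7 : 7 ≤ q) (hQ : Q.natAbs = q) (hQ4 : Q % 4 = 3) (hX1 : X ≠ 1)
    (hX4 : (X - 1) % 4 = 2) (h8 : 8 ∣ X - Q) (hu : u * (Q ^ 2 - X) = X * (X - 1)) :
    X.natAbs + 2 * q ≤ 2 * q ^ 2 ∨ (X - 1 + u).natAbs + 2 * q ≤ 2 * q ^ 2 := by
  have hQ2 : ((q : ℤ)) ^ 2 = Q ^ 2 := by rw [← hQ, Int.natAbs_sq]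
  have hq2 : 7 * q ≤ q ^ 2 := by rw [pow_two]; exact Nat.mul_le_mul_right _ h7
  rcases lt_or_ge X (Q ^ 2) with h | h
  · rcases window_neg (by omega) hQ h hX1 hu with h | h <;> omega
  set E := X - Q ^ 2 with hE
  have hk := mul_second hu
  rw [← hE] at hk
  by_cases hY : E ≤ Q ^ 2 - 2 * q
  · refine Or.inl ?_
    rw [← Int.ofNat_le]
    push_cast
    rw [abs_of_nonneg (by nlinarith), hQ2]
    linarith
  set b := -(X - 1 + u) with hb
  by_cases hB : b ≤ 2 * Q ^ 2 - 2 * q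
  · refine Or.inr ?_
    rw [← Int.ofNat_le, show (X - 1 + u) = -b by rw [hb]; ring, Int.natAbs_neg]
    push_cast
    have : 0 ≤ b := by
      by_contra hneg
      nlinarith
    rw [abs_of_nonneg this, hQ2]
    linarith
  exfalso
  push Not at hY hB
  have hq1 : (7 : ℤ) ≤ q := by exact_mod_cast h7
  have hE0 : 0 < E := by nlinarith
  have hbE : E * (b - Q ^ 2) = Q ^ 2 * (Q ^ 2 - 1) := by linear_combination hk
  have hEup : E ≤ Q ^ 2 + 2 * q + 5 := by
    by_contra hh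
    push Not at hh
    nlinarith [mul_le_mul (le_of_lt hh) (show Q ^ 2 - 2 * q + 1 ≤ b - Q ^ 2 by linarith)
      (by nlinarith) (by linarith)]
  have hE4 : E % 4 = 2 := by
    have hQsq : Q ^ 2 % 4 = 1 := by rw [pow_two, Int.mul_emod, hQ4]; norm_num
    omega
  have hdiv : E ∣ Q ^ 2 * (Q ^ 2 - 1) := ⟨_, hbE.symm⟩
  by_cases h17 : q < 17
  · have hcases : Q ∈ ([7, -9, 11, -13] : List ℤ) := by
      interval_cases q <;> first | simp <;> omega | exact absurd hq (by rw [isPrimePow_nat_iff_bounded]; decide)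
    have hm : (E - (Q ^ 2 - 2 * q)).toNat < 4 * Q.natAbs + 9 := by rw [hQ]; omega
    have hE' : Q ^ 2 - 2 * (Q.natAbs : ℤ) + ((E - (Q ^ 2 - 2 * q)).toNat : ℤ) = E := by rw [hQ]; omega
    have h := List.all_eq_true.1 (List.all_eq_true.1 small_window Q hcases)
      (E - (Q ^ 2 - 2 * q)).toNat (List.mem_range.2 hm)
    dsimp only at h
    rw [hE', decide_eq_true_eq, hQ] at h
    rcases h with h | h | h
    · exact h ⟨Int.emod_eq_zero_of_dvd hdiv, hE4, Int.emod_eq_zero_of_dvd (by rw [hE]; simpa using h8)⟩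
    · linarith
    · rw [← hbE, Int.mul_ediv_cancel_left _ hE0.ne'] at h
      linarith
  obtain ⟨k, hk'⟩ : E ∣ (Q ^ 2 - E) * (Q ^ 2 - E - 1) := by
    rw [show (Q ^ 2 - E) * (Q ^ 2 - E - 1) = Q ^ 2 * (Q ^ 2 - 1) + E * (E + 1 - 2 * Q ^ 2) by ring]
    exact dvd_add hdiv (dvd_mul_right _ _)
  have hq17 : (17 : ℤ) ≤ q := by exact_mod_cast (Nat.le_of_not_lt h17)
  have hk0 : 0 ≤ k := by
    rcases le_or_gt (Q ^ 2 - E) 0 with h' | h' <;> nlinarith
  have hk6 : k ≤ 6 := by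
    by_contra hh
    push Not at hh
    have h7E : 7 * E ≤ E * k := by nlinarith
    nlinarith
  rcases near_square hq (by omega) (j := Q ^ 2 - E) (k := k) hk0 hk6 (by omega)
    (by rw [hQ2]; linear_combination hk') with h' | h' | h' | h'
  · omega
  · have : Q ^ 2 % 4 = 1 := by rw [pow_two, Int.mul_emod, hQ4]; norm_num
    omega
  all_goals
    have key : Q ^ 2 - E = Q ∨ Q ^ 2 - E = -Q := by
      rcases Int.natAbs_eq Q with hs | hs <;> rw [hQ] at hs <;> omega
    obtain ⟨m, rfl⟩ : ∃ m, Q = 4 * m + 3 := ⟨Q / 4, by omega⟩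
    rcases key with hj | hj
    · obtain ⟨w, hw⟩ := h8
      have h : X = 2 * (4 * m + 3) ^ 2 - (4 * m + 3) := by linear_combination -hj - hE
      rw [h] at hw
      have : 8 * (4 * (m * m) + 5 * m - w) + 12 = 0 := by linear_combination hw
      omega
    · have h : E = 4 * (4 * (m * m) + 7 * m + 3) := by linear_combination -hj
      omega

end Cfsg.Agent.SDKeystone.RegBudget
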